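import Cfsg.Agent.Rank2Fus.Main
import Cfsg.Prelude.Def_TwoFusion
import Mathlib.GroupTheory.Sylow

/-!
The fusion of a finite group on a Sylow 2-subgroup satisfies what is used in the classification.
-/

set_option autoImplicit false

namespace Cfsg.Agent.Rank2Fus

open Subgroup

variable {G : Type*} [Group G] [Finite G]

/-- A 2-subgroup centralizing an element of the centre of a Sylow subgroup is conjugate into the
Sylow subgroup inside the centralizer. -/
theorem exists_conj_le (S : Sylow 2 G) {z : G} (hz : (S : Subgroup G) ≤ centralizer ({z} : Set G))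
    {Q : Subgroup G} (hQ : IsPGroup 2 Q) (hQz : Q ≤ centralizer ({z} : Set G)) :
    ∃ c ∈ centralizer ({z} : Set G), ∀ q ∈ Q, c * q * c⁻¹ ∈ (S : Subgroup G) := by
  haveI : Fact (Nat.Prime 2) := ⟨Nat.prime_two⟩
  set C := centralizer ({z} : Set G)
  obtain ⟨P, hP⟩ := (hQ.comap_subtype (K := C)).exists_le_sylow
  obtain ⟨c, hc⟩ := MulAction.exists_smul_eq C P (S.subtype hz)
  refine ⟨c, c.2, fun q hq => ?_⟩
  have h1 : (⟨q, hQz hq⟩ : C) ∈ (P : Subgroup C) := hP (show q ∈ Q from hq)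
  have h2 : c * ⟨q, hQz hq⟩ * c⁻¹ ∈ ((S.subtype hz : Sylow 2 C) : Subgroup C) := by
    rw [← hc, Sylow.smul_def]
    exact Subgroup.smul_mem_pointwise_smul _ (MulAut.conj c) _ h1
  simpa [Sylow.coe_subtype, mem_subgroupOf] using h2

theorem fus_group (S : Sylow 2 G) (hiso : ∀ z : G, ¬ Cfsg.IsIsolatedInvolution z) :
    Fus (S : Subgroup G) fun a b => ∃ g : G, g * (a : G) * g⁻¹ = b where
  symm := fun a b ⟨g, hg⟩ => ⟨g⁻¹, by rw [← hg]; group⟩
  move := by
    intro z hzc hzo
    have hzo' : orderOf (z : G) = 2 := by rw [Subgroup.orderOf_coe]; exact hzo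
    have hC : (S : Subgroup G) ≤ centralizer ({(z : G)} : Set G) := fun s hs =>
      mem_centralizer_singleton_iff.2 (congrArg Subtype.val (mem_center_iff.1 hzc ⟨s, hs⟩))
    obtain ⟨g, hg, hgne⟩ : ∃ g : G, Commute (z : G) (g * z * g⁻¹) ∧ g * (z : G) * g⁻¹ ≠ z := by
      have h := hiso (z : G)
      simp only [Cfsg.IsIsolatedInvolution, not_and, not_forall] at h
      obtain ⟨g, hg, hgne⟩ := h hzo'
      exact ⟨g, hg, hgne⟩
    set w := g * (z : G) * g⁻¹ with hw
    have hwo : orderOf w = 2 := by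
      rw [hw, show g * (z : G) * g⁻¹ = MulAut.conj g z from rfl, MulEquiv.orderOf_eq, hzo']
    have hp : IsPGroup 2 (zpowers w) := IsPGroup.of_card (n := 1) (by rw [Nat.card_zpowers, hwo]; rfl)
    obtain ⟨c, hc, hcQ⟩ := exists_conj_le S hC hp
      (zpowers_le.2 (mem_centralizer_singleton_iff.2 hg.eq.symm))
    have hcz : c * (z : G) * c⁻¹ = z := by rw [mem_centralizer_singleton_iff.1 hc, mul_inv_cancel_right]
    refine ⟨⟨c * w * c⁻¹, hcQ w (mem_zpowers w)⟩, ?_, fun e => hgne ?_, g⁻¹ * c⁻¹, ?_⟩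
    · rw [← Subgroup.orderOf_coe]
      show orderOf (MulAut.conj c w) = 2
      rw [MulEquiv.orderOf_eq, hwo]
    · have e' : c * w * c⁻¹ = c * z * c⁻¹ := (congrArg Subtype.val e).trans hcz.symm
      exact mul_left_cancel (mul_right_cancel e')
    · show g⁻¹ * c⁻¹ * (c * w * c⁻¹) * (g⁻¹ * c⁻¹)⁻¹ = z
      rw [hw]; group
  extend := by
    rintro u z ⟨g, hg⟩ hzc hzo
    have hC : (S : Subgroup G) ≤ centralizer ({(z : G)} : Set G) := fun s hs =>
      mem_centralizer_singleton_iff.2 (congrArg Subtype.val (mem_center_iff.1 hzc ⟨s, hs⟩))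
    set D := centralizer ({u} : Set (S : Subgroup G))
    let Q : Subgroup G := (D.map (S : Subgroup G).subtype).map (MulAut.conj g).toMonoidHom
    have hQ : IsPGroup 2 Q := ((S.2.to_subgroup D).map _).map _
    have hQz : Q ≤ centralizer ({(z : G)} : Set G) := by
      rintro _ ⟨_, ⟨d, hd, rfl⟩, rfl⟩
      have h1 : (d : G) * u = u * d := congrArg Subtype.val (mem_centralizer_singleton_iff.1 hd)
      rw [mem_centralizer_singleton_iff, ← hg]
      show g * (d : G) * g⁻¹ * (g * u * g⁻¹) = g * u * g⁻¹ * (g * d * g⁻¹)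
      calc g * (d : G) * g⁻¹ * (g * u * g⁻¹) = g * (d * u) * g⁻¹ := by group
        _ = _ := by rw [h1]; group
    obtain ⟨c, hc, hcQ⟩ := exists_conj_le S hC hQ hQz
    have hmem : ∀ y : D, (c * g) * ((y : (S : Subgroup G)) : G) * (c * g)⁻¹ ∈ (S : Subgroup G) := fun y => by
      have := hcQ (g * ((y : (S : Subgroup G)) : G) * g⁻¹) ⟨_, ⟨_, y.2, rfl⟩, rfl⟩
      convert this using 1; group
    refine ⟨MonoidHom.mk' (fun y => ⟨_, hmem y⟩) fun a b => Subtype.ext ?_, fun a b e => ?_, fun hu => ?_,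
      fun y => ⟨c * g, rfl⟩⟩
    · show c * g * _ * (c * g)⁻¹ = c * g * _ * (c * g)⁻¹ * (c * g * _ * (c * g)⁻¹)
      push_cast; group
    · exact Subtype.ext (Subtype.ext (mul_left_cancel (mul_right_cancel (congrArg Subtype.val e))))
    · refine Subtype.ext ?_
      show c * g * (u : G) * (c * g)⁻¹ = z
      rw [show c * g * (u : G) * (c * g)⁻¹ = c * (g * u * g⁻¹) * c⁻¹ by group, hg,
        mem_centralizer_singleton_iff.1 hc, mul_inv_cancel_right]

end Cfsg.Agent.Rank2Fus
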